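import Groth.Agent.CILib.KoszulCalc
import Groth.Agent.CILib.KoszulPres
import Groth.Agent.CMSliceLib.Poly

/-!
# Removing an element from a Koszul-regular sequence
-/

set_option autoImplicit false
set_option linter.style.haveILetI false
set_option backward.isDefEq.respectTransparency false

universe u

open CategoryTheory CategoryTheory.Limits CochainComplex

noncomputable section

namespace Groth.Agent.RegBlowLib

open Groth.Agent.KoszulCech Groth.Agent.KosStableLib Groth.Agent.CILib

variable {A : Type u} [CommRing A]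

/-- If the Koszul complex of `a :: l` is exact below zero, multiplication by `a` is injective on the homology of `l`. -/
theorem exists_boundary_of_smul (a : A) (l : List A) (hal : LCI.IsKoszulRegularSeq A (a :: l)) (k : ℤ)
    (hk : k ≤ 0) (z : (Koszul.koszul A l).X k) (hz : (Koszul.koszul A l).d k (k + 1) z = 0)
    (w : (Koszul.koszul A l).X (k - 1)) (hw : (Koszul.koszul A l).d (k - 1) k w = a • z) :
    ∃ w', (Koszul.koszul A l).d (k - 1) k w' = z := by
  let K := Koszul.koszul A l
  have hm : k - 1 + 1 = k := by omega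
  have hm' : k - 1 - 1 + 1 = k - 1 := by omega
  have hC : Ex (mappingCone (a • 𝟙 K)) (k - 1) := (isKoszulRegularSeq_iff_ex _).1 hal _ (by omega)
  obtain ⟨u, hu⟩ := hC (cmk (a • 𝟙 K) (k - 1) k hm z (-w)) (by
    rw [show k - 1 + 1 = k from hm]
    refine cone_ext _ (rfl : k + 1 = k + 1) ?_ ?_
    · rw [cfst_d _ hm rfl, cfst_cmk, hz, neg_zero, map_zero]
    · rw [csnd_d _ hm, cfst_cmk, csnd_cmk, smulId_f_apply, map_neg, hw, add_neg_cancel, map_zero])
  have h1 := congrArg (cfst (a • 𝟙 K) (k - 1) k hm) hu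
  rw [cfst_d _ hm' hm, cfst_cmk] at h1
  exact ⟨-(cfst (a • 𝟙 K) (k - 1 - 1) (k - 1) hm' u), by rw [map_neg]; exact h1⟩

/-- A cycle killed in a localization is a boundary up to a denominator. -/
theorem exists_smul_boundary (M : Submonoid A) (L : Type u) [CommRing L] [Algebra A L] [IsLocalization M L]
    (l : List A) (hl : LCI.IsKoszulRegularSeq L (l.map (algebraMap A L))) (k : ℤ) (hk : k ≠ 0)
    (z : (Koszul.koszul A l).X k) (hz : (Koszul.koszul A l).d k (k + 1) z = 0) :
    ∃ s ∈ M, ∃ w, (Koszul.koszul A l).d (k - 1) k w = s • z := by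
  haveI : Module.Flat A L := IsLocalization.flat L M
  obtain ⟨e⟩ := Groth.Agent.RelDivLib.nonempty_koszul_extendScalars (S := L) l
  haveI : Limits.PreservesFiniteLimits (ModuleCat.extendScalars.{u, u, u} (algebraMap A L)) :=
    ModuleCat.preservesFiniteLimits_extendScalars_of_flat (RingHom.flat_algebraMap_iff.2 inferInstance)
  have hz' : IsZero ((ModuleCat.extendScalars.{u, u, u} (algebraMap A L)).obj ((Koszul.koszul A l).homology k)) := by
    refine IsZero.of_iso (hl k hk) ?_
    exact (((Koszul.koszul A l).sc k).mapHomologyIso (ModuleCat.extendScalars.{u, u, u} (algebraMap A L))).symm ≪≫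
      (HomologicalComplex.homologyFunctor (ModuleCat.{u} L) (ComplexShape.up ℤ) k).mapIso e
  let S := (Koszul.koszul A l).sc' (k - 1) k (k + 1)
  let h : (Koszul.koszul A l).homology k ≅ ModuleCat.of A (LinearMap.ker S.g.hom ⧸ LinearMap.range S.moduleCatToCycles) :=
    (Koszul.koszul A l).homologyIsoSc' (k - 1) k (k + 1) (by simp) (by simp) ≪≫
      S.moduleCatLeftHomologyData.homologyIso
  let c : ModuleCat.of A (LinearMap.ker S.g.hom ⧸ LinearMap.range S.moduleCatToCycles) :=
    Submodule.Quotient.mk ⟨z, hz⟩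
  obtain ⟨s, hs, hs0⟩ := CILib.exists_smul_eq_zero M L _ hz' (h.inv.hom c)
  have h2 : s • c = 0 := by
    have h3 := congrArg h.hom.hom hs0
    rw [map_smul, map_zero] at h3
    rwa [show h.hom.hom (h.inv.hom c) = c from ConcreteCategory.congr_hom h.inv_hom_id c] at h3
  have h4 : s • (⟨z, hz⟩ : LinearMap.ker S.g.hom) ∈ LinearMap.range S.moduleCatToCycles := by
    rw [← Submodule.Quotient.mk_eq_zero, Submodule.Quotient.mk_smul]
    exact h2
  obtain ⟨w, hw⟩ := h4
  exact ⟨s, hs, w, congrArg Subtype.val hw⟩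

/-- Removing `a` from a Koszul-regular sequence which stays regular after inverting `a`. -/
theorem isKoszulRegularSeq_of_cons (a : A) (L : Type u) [CommRing L] [Algebra A L] [IsLocalization.Away a L]
    (l : List A) (hal : LCI.IsKoszulRegularSeq A (a :: l))
    (hl : LCI.IsKoszulRegularSeq L (l.map (algebraMap A L))) : LCI.IsKoszulRegularSeq A l := by
  rw [isKoszulRegularSeq_iff_ex]
  intro k hk
  by_cases hpos : 0 < k
  · exact ex_of_out_of_range l (Or.inl hpos)
  intro z hz
  obtain ⟨_, ⟨N, rfl⟩, w, hw⟩ := exists_smul_boundary (Submonoid.powers a) L l hl k hk z hz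
  induction N generalizing w with
  | zero => exact ⟨w, hw.trans (by simp)⟩
  | succ N ih =>
    obtain ⟨w', hw'⟩ := exists_boundary_of_smul a l hal k (by omega) (a ^ N • z)
      (by rw [map_smul, hz, smul_zero]) w (hw.trans (by simp [pow_succ', mul_smul]))
    exact ih w' hw'

/-- In degree zero: `a` is a nonzerodivisor modulo `l`. -/
theorem mem_of_mul_mem (a : A) (l : List A) (hal : LCI.IsKoszulRegularSeq A (a :: l)) (x : A)
    (hx : a * x ∈ Ideal.ofList l) : x ∈ Ideal.ofList l := by
  have hz : ∀ x : (Koszul.koszul A l).X 0, (Koszul.koszul A l).d 0 (0 + 1) x = 0 := by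
    rw [koszul_eq]
    intro x
    haveI := subsingleton_X (ModuleCat.of A A) l (0 + 1) (Or.inl (by omega))
    exact Subsingleton.elim _ _
  have key : ∀ c : A, c ∈ Ideal.ofList l ↔ c ∈ Ideal.ofList l • (⊤ : Submodule A A) := fun c => by
    rw [smul_eq_mul, Ideal.mul_top]
  have hb := fun z w hw => exists_boundary_of_smul a l hal 0 le_rfl z (hz z) w hw
  rw [koszul_eq] at hb
  obtain ⟨x', hx'⟩ := kaug_surjective (ModuleCat.of A A) l x
  have h1 : kaug (ModuleCat.of A A) l (a • x') ∈ Ideal.ofList l • (⊤ : Submodule A A) := by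
    rw [map_smul, hx']
    exact (key _).1 hx
  obtain ⟨w, hw⟩ := (kaug_mem_iff (ModuleCat.of A A) l _).1 h1
  obtain ⟨w', hw'⟩ := hb x' w hw
  exact (key _).2 (hx' ▸ (kaug_mem_iff (ModuleCat.of A A) l _).2 ⟨w', hw'⟩)

end Groth.Agent.RegBlowLib
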