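import Groth.Agent.RegBlowLib.Koszul
import Groth.Agent.BlowChartLib.Algebra
import Groth.Agent.PerfMorLib.Koszul

/-!
# The chart of the blow-up in a Koszul-regular sequence
-/

set_option autoImplicit false
set_option linter.style.haveILetI false
set_option backward.isDefEq.respectTransparency false

universe u

open MvPolynomial

noncomputable section

namespace Groth.Agent.RegBlowLib

open Groth.Agent.CILib Groth.Agent.BlowChartLib

variable {A : Type u} [CommRing A] {m : ℕ} (f : Fin (m + 1) → A) (j : Fin (m + 1))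

/-- The equations `f j * X i - f (j.succAbove i)`. -/
def eqn (i : Fin m) : MvPolynomial (Fin m) A := C (f j) * X i - C (f (j.succAbove i))

theorem ofList_map_eq : Ideal.ofList ((List.ofFn f).map (C (σ := Fin m))) =
    Ideal.ofList (C (f j) :: List.ofFn (eqn f j)) := by
  apply le_antisymm
  · rw [Ideal.ofList, Ideal.span_le]
    intro x hx
    simp only [Set.mem_setOf_eq, List.map_ofFn, List.mem_ofFn] at hx
    obtain ⟨i, rfl⟩ := hx
    rw [Ideal.ofList_cons]
    rcases eq_or_ne i j with rfl | hij
    · exact Ideal.mem_sup_left (Ideal.mem_span_singleton_self _)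
    · obtain ⟨i', rfl⟩ := Fin.exists_succAbove_eq hij
      have he : C (f (j.succAbove i')) = C (f j) * X i' - eqn f j i' := by rw [eqn]; ring
      show C (f (j.succAbove i')) ∈ _
      rw [he]
      exact sub_mem (Ideal.mem_sup_left (Ideal.mul_mem_right _ _ (Ideal.mem_span_singleton_self _)))
        (Ideal.mem_sup_right (Ideal.subset_span (List.mem_ofFn.2 ⟨i', rfl⟩)))
  · rw [Ideal.ofList_cons, sup_le_iff, Ideal.span_le, Set.singleton_subset_iff]
    refine ⟨Ideal.subset_span (List.mem_map_of_mem (List.mem_ofFn.2 ⟨j, rfl⟩)), ?_⟩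
    rw [Ideal.ofList, Ideal.span_le]
    intro x hx
    simp only [Set.mem_setOf_eq, List.mem_ofFn] at hx
    obtain ⟨i, rfl⟩ := hx
    exact sub_mem (Ideal.mul_mem_right _ _ (Ideal.subset_span (List.mem_map_of_mem (List.mem_ofFn.2 ⟨j, rfl⟩))))
      (Ideal.subset_span (List.mem_map_of_mem (List.mem_ofFn.2 ⟨j.succAbove i, rfl⟩)))

/-- Translated variables form a Koszul-regular sequence. -/
theorem isKoszulRegularSeq_translate (L : Type u) [CommRing L] (c : Fin m → L) :
    LCI.IsKoszulRegularSeq (MvPolynomial (Fin m) L) (List.ofFn fun i => X i - C (c i)) := by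
  let φ : MvPolynomial (Fin m) L →ₐ[L] MvPolynomial (Fin m) L := aeval fun i => X i - C (c i)
  let ψ : MvPolynomial (Fin m) L →ₐ[L] MvPolynomial (Fin m) L := aeval fun i => X i + C (c i)
  let e : MvPolynomial (Fin m) L ≃ₐ[L] MvPolynomial (Fin m) L := AlgEquiv.ofAlgHom φ ψ
    (MvPolynomial.algHom_ext fun i => by simp [φ, ψ]) (MvPolynomial.algHom_ext fun i => by simp [φ, ψ])
  have h : LCI.IsKoszulRegularSeq (MvPolynomial (Fin m) L)
      ((List.ofFn fun i : Fin m => (X i : MvPolynomial (Fin m) L)).map e.toRingEquiv.toRingHom) :=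
    Groth.Agent.RelDivLib.seq_flat e.toRingEquiv.toRingHom (RingHom.Flat.of_bijective e.bijective) .koszul
      (by simp) (isKoszulRegularSeq_of_isWeaklyRegular _ (Groth.Agent.CMSliceLib.isWeaklyRegular_X L m))
  convert h using 1
  rw [List.map_ofFn]
  refine congrArg List.ofFn (funext fun i => ?_)
  exact (aeval_X (fun i => (X i - C (c i) : MvPolynomial (Fin m) L)) i).symm

theorem isKoszulRegularSeq_cons (hf : LCI.IsKoszulRegularSeq A (List.ofFn f)) :
    LCI.IsKoszulRegularSeq (MvPolynomial (Fin m) A) (C (f j) :: List.ofFn (eqn f j)) := by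
  have h : LCI.IsKoszulRegularSeq (MvPolynomial (Fin m) A) ((List.ofFn f).map (C (σ := Fin m))) :=
    Groth.Agent.RelDivLib.isKoszulRegularSeq_flat (S := MvPolynomial (Fin m) A) hf
  exact isKoszulRegularSeq_of_ofList_eq h (ofList_map_eq f j).symm (by simp)

theorem isKoszulRegularSeq_eqn (hf : LCI.IsKoszulRegularSeq A (List.ofFn f)) :
    LCI.IsKoszulRegularSeq (MvPolynomial (Fin m) A) (List.ofFn (eqn f j)) := by
  let La := Localization.Away (f j)
  letI : Algebra (MvPolynomial (Fin m) A) (MvPolynomial (Fin m) La) :=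
    (MvPolynomial.map (algebraMap A La)).toAlgebra
  haveI : IsLocalization.Away (C (f j) : MvPolynomial (Fin m) A) (MvPolynomial (Fin m) La) := by
    have h := MvPolynomial.isLocalization (σ := Fin m) (Submonoid.powers (f j)) La
    rw [Submonoid.map_powers] at h
    exact h
  refine isKoszulRegularSeq_of_cons (C (f j)) (MvPolynomial (Fin m) La) _ (isKoszulRegularSeq_cons f j hf) ?_
  have hu : IsUnit (algebraMap A La (f j)) := IsLocalization.Away.algebraMap_isUnit (f j)
  obtain ⟨u, hu'⟩ := hu
  let c : Fin m → La := fun i => ↑u⁻¹ * algebraMap A La (f (j.succAbove i))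
  have hi : ∀ i, MvPolynomial.map (algebraMap A La) (eqn f j i) = C (u : La) * (X i - C (c i)) := fun i => by
    rw [eqn, map_sub, map_mul, MvPolynomial.map_C, MvPolynomial.map_X, MvPolynomial.map_C, ← hu', mul_sub,
      ← map_mul]
    simp [c]
  refine isKoszulRegularSeq_of_ofList_eq (isKoszulRegularSeq_translate La c) ?_ (by simp)
  rw [List.map_ofFn]
  apply le_antisymm <;> rw [Ideal.ofList, Ideal.span_le] <;> intro x hx <;>
    simp only [Set.mem_setOf_eq, List.mem_ofFn, Function.comp_apply] at hx <;> obtain ⟨i, rfl⟩ := hx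
  · show MvPolynomial.map (algebraMap A La) (eqn f j i) ∈ _
    rw [hi]
    exact Ideal.mul_mem_left _ _ (Ideal.subset_span (List.mem_ofFn.2 ⟨i, rfl⟩))
  · have h1 : X i - C (c i) = C (↑u⁻¹ : La) * MvPolynomial.map (algebraMap A La) (eqn f j i) := by
      rw [hi, ← mul_assoc, ← map_mul, Units.inv_mul, map_one, one_mul]
    rw [h1]
    exact Ideal.mul_mem_left _ _ (Ideal.subset_span (List.mem_ofFn.2 ⟨i, rfl⟩))

/-- The presentation of the chart. -/
theorem perfHom_chart (hf : LCI.IsKoszulRegularSeq A (List.ofFn f)) {I : Ideal A}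
    (hI : I = Ideal.span (Set.range f)) :
    PerfMorLib.PerfHom (algebraMap A (BlowUp.affineAlgebra A I (f j))) := by
  classical
  have hmem : ∀ i, f i ∈ I := fun i => hI ▸ Ideal.subset_span ⟨i, rfl⟩
  let Ψ : MvPolynomial (Fin m) A →+* BlowUp.affineAlgebra A I (f j) :=
    eval₂Hom (algebraMap A _) fun i => frac (f (j.succAbove i)) (hmem _)
  have hC : ∀ r, Ψ (C r) = algebraMap A _ r := fun r => eval₂Hom_C _ _ _
  have hX : ∀ i, Ψ (X i) = frac (a := f j) (f (j.succAbove i)) (hmem _) := fun i => eval₂Hom_X' _ _ i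
  have hfr : ∀ i, frac (a := f j) (f i) (hmem i) ∈ Ψ.range := fun i => by
    rcases eq_or_ne i j with rfl | hij
    · exact ⟨1, (Ψ.map_one).trans (frac_self (hmem i)).symm⟩
    · obtain ⟨i', rfl⟩ := Fin.exists_succAbove_eq hij
      exact ⟨X i', hX i'⟩
  have halg : ∀ r, algebraMap A (BlowUp.affineAlgebra A I (f j)) r ∈ Ψ.range := fun r => ⟨C r, hC r⟩
  have hsurj : Function.Surjective Ψ := fun z =>
    induction_frac (P := fun z => z ∈ Ψ.range) halg
      (fun x hx => by
        obtain ⟨c, hc⟩ := Ideal.mem_span_range_iff_exists_fun.1 (hI.le hx)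
        have h1 := frac_linear (a := f j) c f hmem x hx hc
        exact h1 ▸ sum_mem fun i _ => mul_mem (halg (c i)) (hfr i))
      (fun x y => Subring.add_mem _) (fun x y => Subring.mul_mem _) z
  have hg : ∀ i, Ψ (eqn f j i) = 0 := fun i => by
    rw [eqn, map_sub, map_mul, hC, hX, hC, mul_comm, frac_mul, sub_self]
  let J := Ideal.ofList (List.ofFn (eqn f j))
  have hgJ : ∀ i, eqn f j i ∈ J := fun i => Ideal.subset_span (List.mem_ofFn.2 ⟨i, rfl⟩)
  have hred : ∀ x : MvPolynomial (Fin m) A, ∃ (N : ℕ) (c : A), C (f j) ^ N * x - C c ∈ J := by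
    intro x
    induction x using MvPolynomial.induction_on with
    | C a => exact ⟨0, a, by simp⟩
    | add p q hp hq =>
      obtain ⟨N, c, hc⟩ := hp
      obtain ⟨N', c', hc'⟩ := hq
      refine ⟨N + N', f j ^ N' * c + f j ^ N * c', ?_⟩
      have := add_mem (Ideal.mul_mem_left J (C (f j) ^ N') hc) (Ideal.mul_mem_left J (C (f j) ^ N) hc')
      convert this using 1
      rw [map_add, map_mul, map_mul, map_pow, map_pow]; ring
    | mul_X p i hp =>
      obtain ⟨N, c, hc⟩ := hp
      refine ⟨N + 1, c * f (j.succAbove i), ?_⟩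
      have := add_mem (Ideal.mul_mem_left J (C (f j) * X i) hc) (Ideal.mul_mem_left J (C c) (hgJ i))
      convert this using 1
      rw [eqn, map_mul]; ring
  have hcons := isKoszulRegularSeq_cons f j hf
  have hker : RingHom.ker Ψ = J := by
    apply le_antisymm
    · intro x hx
      obtain ⟨N, c, hc⟩ := hred x
      have hJ : Ψ (C (f j) ^ N * x - C c) = 0 := by
        have : J ≤ RingHom.ker Ψ := by
          rw [Ideal.span_le]
          intro y hy
          obtain ⟨i, rfl⟩ := List.mem_ofFn.1 hy
          exact hg i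
        exact this hc
      rw [map_sub, map_mul, RingHom.mem_ker.1 hx, mul_zero, zero_sub, neg_eq_zero, hC] at hJ
      obtain ⟨⟨_, M, rfl⟩, hM⟩ := (IsLocalization.map_eq_zero_iff (Submonoid.powers (f j))
        (Localization.Away (f j)) c).1 (congrArg Subtype.val hJ)
      have hx2 : C (f j) ^ (M + N) * x ∈ J := by
        have h := Ideal.mul_mem_left J (C (f j) ^ M) hc
        rw [mul_sub, ← map_pow, ← map_mul] at h
        simp only [] at hM
        rw [hM, map_zero, sub_zero, map_pow, ← mul_assoc, ← pow_add] at h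
        exact h
      generalize M + N = K at hx2
      induction K with
      | zero => simpa using hx2
      | succ K ih => exact ih (mem_of_mul_mem _ _ hcons _ (by rwa [← mul_assoc, ← pow_succ']))
    · rw [Ideal.span_le]
      intro y hy
      obtain ⟨i, rfl⟩ := List.mem_ofFn.1 hy
      exact hg i
  have h1 := PerfMorLib.perfHom_of_isKoszulRegular hsurj _ (isKoszulRegularSeq_eqn f j hf) hker
  have h2 : PerfMorLib.PerfHom (algebraMap A (MvPolynomial (Fin m) A)) :=
    ⟨PCHomLib.pcHom_of_flat, PerfMorLib.td_of_flat (RingHom.flat_algebraMap_iff.mpr inferInstance)⟩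
  have h3 := h2.comp h1
  rwa [show Ψ.comp (algebraMap A (MvPolynomial (Fin m) A)) = algebraMap A _ from RingHom.ext hC] at h3

end Groth.Agent.RegBlowLib
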