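import Groth.Agent.RegBlowLib.Chart
import Groth.Agent.BlowChartLib.Scheme
import Groth.Agent.PerfMorLib.KoszulMor

/-!
# Blow-ups in regular centres are perfect
-/

set_option autoImplicit false
set_option linter.style.haveILetI false
set_option backward.isDefEq.respectTransparency false
set_option backward.defeqAttrib.useBackward true

universe u

open CategoryTheory CategoryTheory.Limits AlgebraicGeometry

noncomputable section

namespace Groth.Agent.RegBlowLib

open Groth.Agent.BlowChartLib Groth.Agent.PerfMorLib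

theorem isPerfectMor_of_isOpenImmersion {X Y : Scheme.{u}} (j : X ⟶ Y) [IsOpenImmersion j] :
    MoreMor.IsPerfectMor j := by
  refine (HasRingHomProperty.iff_appLE (P := perfectMor)).mpr fun V W e => ?_
  letI := (j.appLE V W e).hom.toAlgebra
  haveI : Module.Flat Γ(Y, V) Γ(X, W) := Flat.flat_appLE j V.2 W.2 e
  haveI : Algebra.FinitePresentation Γ(Y, V) Γ(X, W) := j.finitePresentation_appLE V.2 W.2 e
  exact ⟨PCHomLib.pcHom_of_flat, td_of_flat (RingHom.flat_algebraMap_iff.mpr ‹_›)⟩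

theorem isPerfectMor_of_local {X Y : Scheme.{u}} (f : X ⟶ Y)
    (h : ∀ x : X, ∃ W : X.Opens, x ∈ W ∧ MoreMor.IsPerfectMor (W.ι ≫ f)) : MoreMor.IsPerfectMor f := by
  choose W hxW hW using h
  exact (IsZariskiLocalAtSource.iff_of_iSup_eq_top (P := perfectMor) W
    (top_le_iff.1 fun x _ => TopologicalSpace.Opens.mem_iSup.2 ⟨x, hxW x⟩)).2 hW

theorem isPerfectMor_blowUp {Y X X' : Scheme.{u}} (i : Y ⟶ X) (hi : Mor2.IsRegularClosedImmersion i)
    (f : X' ⟶ X) (hf : BlowUp.IsBlowUp f i.ker) : MoreMor.IsPerfectMor f := by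
  haveI := hi.1
  have hgen : ∀ y : X, ∃ (U : X.affineOpens) (rs : List Γ(X, U.1)), y ∈ U.1 ∧
      RingTheory.Sequence.IsWeaklyRegular Γ(X, U.1) rs ∧ i.ker.ideal U = Ideal.ofList rs := by
    intro y
    by_cases hy : y ∈ Set.range i
    · obtain ⟨z, rfl⟩ := hy
      obtain ⟨U, hU, hz, rs, hrs, hker⟩ := hi.2 z
      exact ⟨⟨U, hU⟩, rs, hz, hrs.toIsWeaklyRegular, hker⟩
    · have hcl : IsClosed (Set.range i) := i.isClosedEmbedding.isClosed_range
      obtain ⟨_, ⟨U : X.Opens, hU, rfl⟩, hyU, hUsub⟩ :=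
        X.isBasis_affineOpens.exists_subset_of_mem_open (show y ∈ (Set.range i)ᶜ from hy) hcl.isOpen_compl
      refine ⟨⟨U, hU⟩, [1], hyU, (RingTheory.Sequence.isWeaklyRegular_singleton_iff _ _).2 (IsSMulRegular.one _), ?_⟩
      rw [Ideal.ofList_singleton, Ideal.span_singleton_one]
      have h0 := Scheme.IdealSheafData.coe_support_inter i.ker ⟨U, hU⟩
      rw [Scheme.Hom.support_ker, hcl.closure_eq,
        Set.disjoint_iff_inter_eq_empty.1 (Set.disjoint_left.2 fun p hp hpU => hUsub hpU hp)] at h0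
      by_contra hne
      obtain ⟨P, hP, hle⟩ := Ideal.exists_le_maximal _ hne
      have hmem : hU.fromSpec ⟨P, hP.isPrime⟩ ∈ (X.zeroLocus (U := U) (i.ker.ideal ⟨U, hU⟩) ∩ (U : Set X)) := by
        rw [← hU.fromSpec_image_zeroLocus]
        exact ⟨⟨P, hP.isPrime⟩, hle, rfl⟩
      rw [← h0] at hmem
      exact hmem
  refine isPerfectMor_of_local f fun x => ?_
  obtain ⟨U, rs, hxU, hrs, hker⟩ := hgen (f x)
  obtain ⟨a, ha, hx⟩ := exists_mem_chartOpen i.ker U f hf {r | r ∈ rs} hker.symm x hxU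
  obtain ⟨e, he⟩ := isOpenImmersion_hom i.ker U a f (hker ▸ Ideal.subset_span ha) hf
  refine ⟨_, hx, ?_⟩
  rw [← he]
  refine isPerfectMor_comp (isPerfectMor_of_isOpenImmersion _) ?_
  refine isPerfectMor_comp ?_ (isPerfectMor_of_isOpenImmersion _)
  refine (HasRingHomProperty.Spec_iff (P := perfectMor)).2 ?_
  obtain ⟨k, hk⟩ := List.mem_iff_get.1 ha
  obtain ⟨m, hm⟩ : ∃ m, rs.length = m + 1 := ⟨rs.length - 1, by have := k.2; omega⟩
  have hlist : List.ofFn (fun t : Fin (m + 1) => rs.get (Fin.cast hm.symm t)) = rs := by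
    rw [← List.ofFn_congr hm, List.ofFn_get]
  have h := perfHom_chart (fun t : Fin (m + 1) => rs.get (Fin.cast hm.symm t)) (Fin.cast hm k)
    (hlist.symm ▸ CILib.isKoszulRegularSeq_of_isWeaklyRegular rs hrs) (I := i.ker.ideal U) (by
      rw [hker]
      refine (congrArg Ideal.ofList hlist.symm).trans ?_
      rw [Ideal.ofList]
      congr 1
      exact Set.ext fun r => List.mem_ofFn)
  rw [show rs.get (Fin.cast hm.symm (Fin.cast hm k)) = a from hk] at h
  exact h

end Groth.Agent.RegBlowLib
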